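import Mathlib
import Cfsg.Agent.Lib.Deg.Thompson
import Cfsg.Agent.Lib.H85.CharAux

/-!
A normal `p`-complement from a coset of a normal subgroup lying in one orbit of the automorphism group.
-/

set_option autoImplicit false

namespace H50.Npc

open Cfsg H6 H87
open scoped ComplexConjugate

variable {G : Type*} [Group G] [Finite G]

theorem sum_coset_eq_zero (N : Subgroup G) [hN : N.Normal] [Fintype N] {χ : G → ℂ} (hχ : IsIrrCharacter G χ)
    (h : ¬ Over N χ (fun _ => 1)) (g : G) : ∑ n : N, χ (n * g) = 0 := by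
  classical
  have := Fintype.ofFinite G
  have hf : IsClassFunction G (fun x => if x ∈ N then (1 : ℂ) else 0) := fun x y => by
    simp only [hN.mem_comm_iff (a := y * x), inv_mul_cancel_left]
  have h1 := sum_mul_irr_mul hχ hf g
  have h2 : ∀ f : G → ℂ, ∑ x : G, (if x ∈ N then (1 : ℂ) else 0) * f x = ∑ n : N, f n := fun f => by
    simp only [ite_mul, one_mul, zero_mul]
    rw [← Finset.sum_filter]
    exact Finset.sum_subtype _ (by simp) f
  rw [h2 (fun x => χ (x * g)), h2] at h1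
  have h3 : ∑ n : N, χ n = 0 := by
    simpa [Over, finsum_eq_sum_of_fintype] using h
  rw [h1, h3, zero_div, zero_mul]

theorem eq_one_of_over {p k : ℕ} (hp : p.Prime) (N : Subgroup G) [hN : N.Normal] (hk : N.index = p ^ k) {χ : G → ℂ}
    (hχ : IsIrrCharacter G χ) (h : Over N χ (fun _ => 1)) (h1 : ¬ p ∣ charDegree χ) (h2 : ¬ p ∣ detOrder χ) :
    χ = fun _ => 1 := by
  have hd := h.deg_dvd_mul hχ isIrrCharacter_one
  rw [deg_one, mul_one, hk] at hd
  have hd1 : charDegree χ = 1 :=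
    Nat.Coprime.eq_one_of_dvd (((Nat.Prime.coprime_iff_not_dvd hp).2 h1).symm.pow_right k) hd
  have hker := h.le_charKer hχ (irr_isCharacter isIrrCharacter_one) N le_rfl fun _ _ => rfl
  obtain ⟨l, hl⟩ := (linearCharEquiv G).surjective ⟨⟨χ, hχ⟩, (deg_eq_one_iff (irr_isCharacter hχ)).1 hd1⟩
  obtain rfl : (fun g => (l g : ℂ)) = χ := congrArg (fun z => (z.1 : G → ℂ)) hl
  rw [H31.detOrder_eq, H31.detHom_hom] at h2
  have h3 : l ^ p ^ k = 1 := by
    ext g
    have h4 : g ^ p ^ k ∈ N := hk ▸ N.pow_index_mem g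
    have h5 := (mem_charKer (irr_isCharacter hχ)).1 (hker h4)
    simpa using h5
  have h4 : orderOf l = 1 :=
    Nat.Coprime.eq_one_of_dvd (((Nat.Prime.coprime_iff_not_dvd hp).2 h2).symm.pow_right k) (orderOf_dvd_of_pow_eq_one h3)
  rw [orderOf_eq_one_iff.1 h4]
  rfl

/-- the main lemma -/
theorem not_dvd_card_pResidual {p k j : ℕ} (hp : p.Prime) (N : Subgroup G) [hN : N.Normal] (hk : N.index = p ^ k)
    {g : G} (hg : orderOf g = p ^ j) (h : ∀ n ∈ N, ∃ φ : G ≃* G, φ g = n * g) :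
    ¬ p ∣ Nat.card (pResidual p G) := fun hd => by
  classical
  have := Fintype.ofFinite N
  have h1 := (card_pResidual_modEq (G := G) hp).symm.dvd
  set U := Finset.univ.filter (fun χ : IrrCharacter G => ¬ p ∣ charDegree (χ : G → ℂ) ∧ ¬ p ∣ detOrder (χ : G → ℂ))
    with hU
  let Θ : G → ℂ := fun x => ∑ χ ∈ U, (charDegree (χ : G → ℂ) : ℂ) * (χ : G → ℂ) x
  have inv : ∀ (φ : G ≃* G) (x : G), Θ (φ x) = Θ x := fun φ x => by
    have mem : ∀ (φ : G ≃* G), ∀ χ ∈ U,
        (⟨fun y => (χ : G → ℂ) (φ y), isIrrCharacter_comp_equiv φ χ.2⟩ : IrrCharacter G) ∈ U := fun φ χ hχ => by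
      obtain ⟨-, h2, h3⟩ := Finset.mem_filter.1 hχ
      refine Finset.mem_filter.2 ⟨Finset.mem_univ _, ?_, ?_⟩
      · rwa [show charDegree (fun y => (χ : G → ℂ) (φ y)) = charDegree (χ : G → ℂ) from deg_comp φ.toMonoidHom _]
      · rw [H31.detOrder_eq] at h3 ⊢
        rw [show H31.detHom (fun y => (χ : G → ℂ) (φ y)) = (H31.detHom (χ : G → ℂ)).comp φ.toMonoidHom from
          H31.detHom_comp φ.toMonoidHom (irr_isCharacter χ.2)]
        refine fun e => h3 (e.trans (orderOf_dvd_of_pow_eq_one ?_))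
        refine MonoidHom.ext fun y => ?_
        exact DFunLike.congr_fun (pow_orderOf_eq_one (H31.detHom (χ : G → ℂ))) (φ y)
    refine Finset.sum_bij' (fun χ _ => ⟨fun y => (χ : G → ℂ) (φ y), isIrrCharacter_comp_equiv φ χ.2⟩)
      (fun χ _ => ⟨fun y => (χ : G → ℂ) (φ.symm y), isIrrCharacter_comp_equiv φ.symm χ.2⟩) (mem φ) (mem φ.symm)
      (fun χ _ => Subtype.ext (funext fun y => by simp)) (fun χ _ => Subtype.ext (funext fun y => by simp))
      fun χ _ => ?_
    rw [show charDegree (fun y => (χ : G → ℂ) (φ y)) = charDegree (χ : G → ℂ) from deg_comp φ.toMonoidHom _]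
  have hone : (⟨fun _ => 1, isIrrCharacter_one⟩ : IrrCharacter G) ∈ U := by
    refine Finset.mem_filter.2 ⟨Finset.mem_univ _, ?_, ?_⟩
    · rw [show charDegree (fun _ : G => (1 : ℂ)) = 1 from deg_one]; exact hp.not_dvd_one
    · rw [H31.detOrder_eq, show H31.detHom (fun _ : G => (1 : ℂ)) = 1 from H31.detHom_hom 1, orderOf_one]
      exact hp.not_dvd_one
  have h2 : ∑ n : N, Θ (n * g) = Fintype.card N * Θ g := by
    rw [Finset.sum_congr rfl (g := fun _ => Θ g) fun n _ => by
      obtain ⟨φ, e⟩ := h n n.2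
      rw [← e, inv]]
    simp
  have h3 : ∑ n : N, Θ (n * g) = Fintype.card N := by
    simp only [Θ]
    rw [Finset.sum_comm, Finset.sum_eq_single_of_mem _ hone]
    · simp [deg_one]
    · intro χ hχ hne
      obtain ⟨-, h2, h3⟩ := Finset.mem_filter.1 hχ
      rw [← Finset.mul_sum, sum_coset_eq_zero N χ.2 (fun ho => hne (Subtype.ext
        (eq_one_of_over hp N hk χ.2 ho h2 h3))), mul_zero]
  have h4 : Θ g = 1 := by
    have h5 : (Fintype.card N : ℂ) ≠ 0 := Nat.cast_ne_zero.2 Fintype.card_ne_zero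
    exact mul_left_cancel₀ h5 (by rw [← h2, h3, mul_one])
  obtain ⟨M, hM⟩ := H85.exists_isPModular hp
  have := hM.2.1
  have := H33.charP hM
  have h5 := congrArg (H33.red M) h4
  simp only [Θ] at h5
  rw [H33.red_sum _ fun χ _ => mul_mem (natCast_mem _ _) (H85.char_mem_O (irr_isCharacter χ.2) g), H33.red_one,
    Finset.sum_congr rfl fun χ _ => by
      rw [H33.red_mul (natCast_mem _ _) (H85.char_mem_O (irr_isCharacter χ.2) g), H33.red_natCast,
        H85.red_char_pElt hM (irr_isCharacter χ.2) hg]] at h5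
  have h6 := (CharP.intCast_eq_zero_iff (H33.F M) p _).2 h1
  have h7 := (CharP.cast_eq_zero_iff (H33.F M) p _).2 hd
  push_cast at h6
  rw [h7, zero_sub, neg_eq_zero] at h6
  simp only [sq] at h6
  exact one_ne_zero (h5.symm.trans h6)

end H50.Npc
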